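import Groth.Agent.L23.RedInd
import Groth.Agent.L25.TwConst.Components
import Groth.Agent.L21.Curve.NormalConnected
import Groth.Agent.L21.Smooth.Scheme
import Groth.Agent.L01.Regular
import Groth.Prelude.Def_StrictSS
import Mathlib.AlgebraicGeometry.Morphisms.Smooth
import Mathlib.RingTheory.Spectrum.Prime.RingHom
import Mathlib.AlgebraicGeometry.Morphisms.ClosedImmersion

/-! The components of a strictly semistable curve over a field are smooth. -/

set_option autoImplicit false
set_option linter.style.haveILetI false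
set_option backward.isDefEq.respectTransparency.types false
set_option backward.isDefEq.respectTransparency false
set_option maxHeartbeats 1000000

universe u

open CategoryTheory CategoryTheory.Limits AlgebraicGeometry TopologicalSpace

noncomputable section

namespace Groth.L05.StrictSS

section Model

variable {A : Type u} [CommRing A] (a : A)

theorem smooth_node_of_isUnit (ha : IsUnit a) : Algebra.Smooth A (_root_.StrictSS.NodeAlg A a) := by
  let J : Ideal (MvPolynomial (Fin 2) A) :=
    Ideal.span {MvPolynomial.X 0 * MvPolynomial.X 1 - MvPolynomial.C a}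
  haveI : Algebra.FormallySmooth A (_root_.StrictSS.NodeAlg A a) := by
    refine Algebra.FormallySmooth.of_comp_surjective ?_
    intro B _ _ I hI g
    let x := g (Ideal.Quotient.mk J (MvPolynomial.X 0))
    let y := g (Ideal.Quotient.mk J (MvPolynomial.X 1))
    have hxy : x * y = algebraMap A (B ⧸ I) a := by
      rw [← map_mul, ← map_mul, ← g.commutes]
      exact congrArg g (Ideal.Quotient.eq.2 (Ideal.mem_span_singleton_self _))
    obtain ⟨x₀, hx₀⟩ := Ideal.Quotient.mk_surjective x
    obtain ⟨y₀, hy₀⟩ := Ideal.Quotient.mk_surjective y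
    have hu : IsUnit x₀ := by
      have h1 : IsUnit (Ideal.Quotient.mk I x₀) := by
        rw [hx₀]
        exact isUnit_of_mul_isUnit_left (hxy ▸ ha.map (algebraMap A (B ⧸ I)))
      exact IsNilpotent.isUnit_quotient_mk_iff ⟨2, hI⟩ |>.1 h1
    obtain ⟨w, rfl⟩ := hu
    let b : MvPolynomial (Fin 2) A →ₐ[A] B :=
      MvPolynomial.aeval ![(w : B), algebraMap A B a * (↑w⁻¹ : B)]
    refine ⟨Ideal.Quotient.liftₐ J b fun z hz => ?_, ?_⟩
    · obtain ⟨v, rfl⟩ := Ideal.mem_span_singleton'.1 hz
      rw [map_mul]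
      refine mul_eq_zero_of_right _ ?_
      simp [b]
      rw [mul_left_comm, Units.mul_inv, mul_one, sub_self]
    · refine Ideal.Quotient.algHom_ext _ (MvPolynomial.algHom_ext fun i => ?_)
      show Ideal.Quotient.mk I (b (MvPolynomial.X i)) = g (Ideal.Quotient.mk J (MvPolynomial.X i))
      rw [MvPolynomial.aeval_X]
      fin_cases i
      · exact hx₀
      · show Ideal.Quotient.mk I (algebraMap A B a * (↑w⁻¹ : B)) = y
        rw [map_mul, show Ideal.Quotient.mk I (algebraMap A B a) = x * y from hxy.symm, ← hx₀,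
          mul_comm (Ideal.Quotient.mk I (w : B)) y, mul_assoc, ← map_mul, Units.mul_inv, map_one, mul_one]
  haveI : Algebra.FinitePresentation A (_root_.StrictSS.NodeAlg A a) :=
    Algebra.FinitePresentation.quotient (Submodule.fg_span_singleton _)
  exact ⟨inferInstance, inferInstance⟩

/-- The two axes. -/
theorem exists_axis (i j : Fin 2) (hij : i ≠ j) :
    ∃ π : _root_.StrictSS.NodeAlg A (0 : A) →ₐ[A] Polynomial A, Function.Surjective π ∧
      ∀ P : PrimeSpectrum (_root_.StrictSS.NodeAlg A (0 : A)),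
        Ideal.Quotient.mk _ (MvPolynomial.X j) ∈ P.asIdeal → P ∈ Set.range (PrimeSpectrum.comap π.toRingHom) := by
  let J : Ideal (MvPolynomial (Fin 2) A) :=
    Ideal.span {MvPolynomial.X 0 * MvPolynomial.X 1 - MvPolynomial.C 0}
  let b : MvPolynomial (Fin 2) A →ₐ[A] Polynomial A :=
    MvPolynomial.aeval fun l => if l = i then Polynomial.X else 0
  let π : _root_.StrictSS.NodeAlg A (0 : A) →ₐ[A] Polynomial A := Ideal.Quotient.liftₐ J b fun z hz => by
    obtain ⟨v, rfl⟩ := Ideal.mem_span_singleton'.1 hz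
    rw [map_mul]
    refine mul_eq_zero_of_right _ ?_
    fin_cases i <;> simp [b]
  let s : Polynomial A →ₐ[A] _root_.StrictSS.NodeAlg A (0 : A) :=
    Polynomial.aeval (Ideal.Quotient.mk J (MvPolynomial.X i))
  have hπs : ∀ p, π (s p) = p := fun p => AlgHom.congr_fun (show π.comp s = AlgHom.id A _ from
    Polynomial.algHom_ext (by
      rw [AlgHom.comp_apply, Polynomial.aeval_X]
      show b (MvPolynomial.X i) = _
      simp [b])) p
  refine ⟨π, fun p => ⟨s p, hπs p⟩, fun P hP => ?_⟩
  have hkey : (Ideal.Quotient.mkₐ A P.asIdeal).comp (s.comp π) = Ideal.Quotient.mkₐ A P.asIdeal := by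
    refine Ideal.Quotient.algHom_ext _ (MvPolynomial.algHom_ext fun l => ?_)
    show Ideal.Quotient.mk P.asIdeal (s (b (MvPolynomial.X l))) =
      Ideal.Quotient.mk P.asIdeal (Ideal.Quotient.mk J (MvPolynomial.X l))
    rw [MvPolynomial.aeval_X]
    by_cases hl : l = i
    · subst hl
      rw [if_pos rfl, Polynomial.aeval_X]
    · rw [if_neg hl]
      refine (congrArg _ (map_zero s)).trans ((map_zero _).trans ?_)
      have : l = j := by omega
      subst this
      exact (Ideal.Quotient.eq_zero_iff_mem.2 hP).symm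
  show P ∈ Set.range (PrimeSpectrum.comap π.toRingHom)
  rw [_root_.range_comap_of_surjective _ π.toRingHom (fun p => ⟨s p, hπs p⟩)]
  intro z hz
  show z ∈ P.asIdeal
  have h := AlgHom.congr_fun hkey z
  rw [AlgHom.comp_apply, AlgHom.comp_apply, show π z = 0 from hz] at h
  exact Ideal.Quotient.eq_zero_iff_mem.1 (h.symm.trans ((congrArg _ (map_zero s)).trans (map_zero _)))

end Model

variable {k : Type u} [Field k] {C : Scheme.{u}} (φ : C ⟶ Spec (CommRingCat.of k))

/-- A component lying on a smooth closed subscheme of an open is smooth on that open. -/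
theorem smooth_restrict_of_smooth_sub {W : Scheme.{u}} (e : W ⟶ C) [IsClosedImmersion e] [IsReduced W]
    [IsLocallyNoetherian C]
    (Z : Set C) (hZ : Z ∈ irreducibleComponents (C : Type u)) (hW : Set.range e = Z) (U : C.Opens)
    {η : C} (hη : IsGenericPoint η Z) (hηU : η ∈ U)
    {T : Scheme.{u}} (g : T ⟶ U) [IsClosedImmersion g] (hηT : ⟨η, hηU⟩ ∈ Set.range g)
    [Smooth (g ≫ U.ι ≫ φ)] : Smooth ((e ⁻¹ᵁ U).ι ≫ e ≫ φ) := by
  haveI : LocallyOfFiniteType (g ≫ U.ι ≫ φ) := inferInstance
  haveI : IsLocallyNoetherian T := LocallyOfFiniteType.isLocallyNoetherian (g ≫ U.ι ≫ φ)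
  have hdom : ∀ t : T, IsDomain (T.presheaf.stalk t) := fun t => by
    haveI := Groth.L21.Smooth.regular_stalk (g ≫ U.ι ≫ φ) t
    exact Groth.L01.isDomain_of_regular _
  obtain ⟨η', hη'⟩ := hηT
  have hημ : ∀ c : C, c ⤳ η → c = η := fun c hc => by
    have hle : Z ⊆ closure {c} := by
      rw [← hη.def]
      exact closure_minimal (Set.singleton_subset_iff.2 hc.mem_closure) isClosed_closure
    have heq : closure {c} = Z := Set.Subset.antisymm (hZ.2 isIrreducible_singleton.closure hle) hle
    exact (show IsGenericPoint c Z from heq).eq hη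
  have hgι : (g ≫ U.ι) η' = η := by
    rw [Scheme.Hom.comp_apply, hη']
    rfl
  have hcomp : irreducibleComponent η' = closure {η'} := by
    refine Set.Subset.antisymm ?_ (closure_minimal (Set.singleton_subset_iff.2 mem_irreducibleComponent)
      isClosed_irreducibleComponent)
    obtain ⟨t, ht⟩ := QuasiSober.sober (isIrreducible_irreducibleComponent (x := η')) isClosed_irreducibleComponent
    have htη : t ⤳ η' := ht.specializes mem_irreducibleComponent
    have : t = η' := (g ≫ U.ι).isEmbedding.injective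
      ((hημ _ (hgι ▸ htη.map (g ≫ U.ι).continuous)).trans hgι.symm)
    rw [← ht.def, this]
  have hO : IsOpen (irreducibleComponent η') := Groth.L25.TwConst.isOpen_irreducibleComponent_of_unique
    (fun t Y hY htY => by
      haveI := hdom t
      exact Groth.L21.NormalTotal.eq_of_mem_irreducibleComponents t hY
        (irreducibleComponent_mem_irreducibleComponents t) htY mem_irreducibleComponent) η'
  let O : T.Opens := ⟨irreducibleComponent η', hO⟩
  haveI : IsClosedImmersion O.ι := by
    refine IsClosedImmersion.of_isPreimmersion _ ?_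
    rw [Scheme.Opens.range_ι]
    exact isClosed_irreducibleComponent
  haveI : IsReduced T := by
    haveI : ∀ t : T, _root_.IsReduced (T.presheaf.stalk t) := fun t => by haveI := hdom t; infer_instance
    exact isReduced_of_isReduced_stalk _
  have hrange : Set.range (e ∣_ U) = Set.range (O.ι ≫ g) := by
    ext w
    rw [Scheme.Hom.comp_base, TopCat.coe_comp, Set.range_comp, Scheme.Opens.range_ι]
    constructor
    · rintro ⟨v, rfl⟩
      have hv : ((e ∣_ U) v).1 ∈ Z := by
        rw [← hW]
        refine ⟨(e ⁻¹ᵁ U).ι v, ?_⟩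
        show ((e ⁻¹ᵁ U).ι ≫ e) v = (U.ι ((e ∣_ U) v))
        rw [← morphismRestrict_ι]
        rfl
      have hs : (⟨η, hηU⟩ : U) ⤳ (e ∣_ U) v :=
        U.ι.isEmbedding.isInducing.specializes_iff.1 (hη.specializes hv)
      obtain ⟨t, ht⟩ := hs.mem_closed g.isClosedEmbedding.isClosed_range ⟨η', hη'⟩
      refine ⟨t, ?_, ht⟩
      show t ∈ irreducibleComponent η'
      rw [hcomp, ← specializes_iff_mem_closure, ← g.isEmbedding.isInducing.specializes_iff, hη', ht]
      exact hs
    · rintro ⟨t, ht, rfl⟩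
      rw [SetLike.mem_coe, show t ∈ O ↔ t ∈ closure {η'} from hcomp ▸ Iff.rfl] at ht
      have hs : η ⤳ U.ι (g t) := hgι ▸ ((specializes_iff_mem_closure.2 ht).map (g ≫ U.ι).continuous)
      have hmem : U.ι (g t) ∈ Set.range e := hW ▸ hs.mem_closed (isClosed_of_mem_irreducibleComponents Z hZ) hη.mem
      obtain ⟨v, hv⟩ := hmem
      have hvU : v ∈ e ⁻¹ᵁ U := by
        show e v ∈ U
        rw [hv]
        exact (g t).2
      refine ⟨⟨v, hvU⟩, U.ι.isEmbedding.injective ?_⟩
      rw [← Scheme.Hom.comp_apply, morphismRestrict_ι]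
      exact hv
  obtain ⟨i, hi⟩ := Groth.L23.exists_iso_of_range_eq (e ∣_ U) (O.ι ≫ g) hrange
  rw [← morphismRestrict_ι_assoc, ← hi, Category.assoc, Category.assoc]
  infer_instance

end Groth.L05.StrictSS

namespace Groth.L05.StrictSS

variable {k : Type u} [Field k] {C : Scheme.{u}} (φ : C ⟶ Spec (CommRingCat.of k))

/-- Near every point of a component there is a smooth closed subscheme of a neighbourhood through its
generic point. -/
theorem exists_smooth_sub {D : Scheme.{u}} (i : D ⟶ C) (h : _root_.StrictSS.IsStrictlySemistable φ i) (x η : C)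
    (hηx : η ⤳ x) : ∃ (U : C.Opens) (_ : x ∈ U) (hηU : η ∈ U) (T : Scheme.{u}) (g : T ⟶ U),
      IsClosedImmersion g ∧ (⟨η, hηU⟩ : U) ∈ Set.range g ∧ Smooth (g ≫ U.ι ≫ φ) := by
  rcases h.2 x with ⟨A, j, hj, U, hxU, q, hq, f, fD, hf, hfq, -, -⟩ | ⟨A, j, hj, U, hxU, q, hq, a, f, hf, hfq, -⟩
  · have hηU : η ∈ U := hηx.mem_open U.2 hxU
    refine ⟨U, hxU, hηU, U, 𝟙 _, inferInstance, ⟨⟨η, hηU⟩, rfl⟩, ?_⟩
    haveI : Smooth (_root_.StrictSS.lineToBase A) := by
      rw [_root_.StrictSS.lineToBase, HasRingHomProperty.Spec_iff (P := @Smooth)]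
      change (algebraMap A (Polynomial A)).Smooth
      rw [RingHom.smooth_algebraMap]
      haveI : Algebra.Smooth A (MvPolynomial (Fin 1) A) := ⟨inferInstance, inferInstance⟩
      exact Algebra.Smooth.of_equiv (MvPolynomial.uniqueAlgEquiv A (Fin 1))
    rw [Category.id_comp, hq, ← hfq]
    infer_instance
  · have hηU : η ∈ U := hηx.mem_open U.2 hxU
    -- the chart ring is a field
    haveI : IsIso j := by
      haveI : Surjective j := ⟨fun z => ⟨q ⟨x, hxU⟩, Subsingleton.elim _ _⟩⟩
      exact (isIso_iff_isOpenImmersion_and_epi_base j).2 ⟨hj, by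
        rw [TopCat.epi_iff_surjective]; exact j.surjective⟩
    have hA : IsField A := by
      have e : CommRingCat.of k ≅ A := Scheme.Spec.preimageIso (asIso j) |>.unop
      exact MulEquiv.isField (Field.toIsField k) e.commRingCatIsoToRingEquiv.symm.toMulEquiv
    by_cases ha : a = 0
    · subst ha
      let P : PrimeSpectrum (_root_.StrictSS.NodeAlg A (0 : A)) := f ⟨η, hηU⟩
      obtain ⟨i₁, j₁, hij, hP⟩ : ∃ i₁ j₁ : Fin 2, i₁ ≠ j₁ ∧
          Ideal.Quotient.mk _ (MvPolynomial.X j₁) ∈ P.asIdeal := by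
        have h0 : Ideal.Quotient.mk _ (MvPolynomial.X 0) * Ideal.Quotient.mk _ (MvPolynomial.X 1) ∈ P.asIdeal := by
          rw [← map_mul, show Ideal.Quotient.mk (Ideal.span {(MvPolynomial.X 0 * MvPolynomial.X 1 -
              MvPolynomial.C (0 : A) : MvPolynomial (Fin 2) A)}) (MvPolynomial.X 0 * MvPolynomial.X 1) = 0 from
            Ideal.Quotient.eq_zero_iff_mem.2 (by
              have := Ideal.mem_span_singleton_self (MvPolynomial.X 0 * MvPolynomial.X 1 -
                MvPolynomial.C (0 : A) : MvPolynomial (Fin 2) A)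
              simpa using this)]
          exact zero_mem _
        rcases P.2.mem_or_mem h0 with h | h
        · exact ⟨1, 0, by decide, h⟩
        · exact ⟨0, 1, by decide, h⟩
      obtain ⟨π, hπ, hrange⟩ := exists_axis (A := A) i₁ j₁ hij
      let ι₁ : Spec (CommRingCat.of (Polynomial A)) ⟶ Spec (CommRingCat.of (_root_.StrictSS.NodeAlg A (0 : A))) :=
        Spec.map (CommRingCat.ofHom π.toRingHom)
      haveI : IsClosedImmersion ι₁ := IsClosedImmersion.spec_of_surjective _ hπ
      obtain ⟨z, hz⟩ := hrange P hP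
      obtain ⟨t, ht, -⟩ := Scheme.exists_preimage_of_isPullback (IsPullback.of_hasPullback f ι₁) ⟨η, hηU⟩ z hz.symm
      refine ⟨U, hxU, hηU, pullback f ι₁, pullback.fst f ι₁, inferInstance, ⟨t, ht⟩, ?_⟩
      haveI : Smooth (_root_.StrictSS.lineToBase A) := by
        rw [_root_.StrictSS.lineToBase, HasRingHomProperty.Spec_iff (P := @Smooth)]
        change (algebraMap A (Polynomial A)).Smooth
        rw [RingHom.smooth_algebraMap]
        haveI : Algebra.Smooth A (MvPolynomial (Fin 1) A) := ⟨inferInstance, inferInstance⟩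
        exact Algebra.Smooth.of_equiv (MvPolynomial.uniqueAlgEquiv A (Fin 1))
      have hl : ι₁ ≫ _root_.StrictSS.nodeToBase A 0 = _root_.StrictSS.lineToBase A := by
        rw [_root_.StrictSS.nodeToBase, _root_.StrictSS.lineToBase, ← Spec.map_comp]
        congr 1
        exact CommRingCat.hom_ext (RingHom.ext fun c => π.commutes c)
      rw [hq, ← hfq, Category.assoc, pullback.condition_assoc, reassoc_of% hl]
      infer_instance
    · refine ⟨U, hxU, hηU, U, 𝟙 _, inferInstance, ⟨⟨η, hηU⟩, rfl⟩, ?_⟩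
      haveI : Smooth (_root_.StrictSS.nodeToBase A a) := by
        rw [_root_.StrictSS.nodeToBase, HasRingHomProperty.Spec_iff (P := @Smooth)]
        change (algebraMap A (_root_.StrictSS.NodeAlg A a)).Smooth
        rw [RingHom.smooth_algebraMap]
        obtain ⟨b, hb⟩ := hA.mul_inv_cancel ha
        exact smooth_node_of_isUnit a (IsUnit.of_mul_eq_one b hb)
      rw [Category.id_comp, hq, ← hfq]
      infer_instance

theorem exists_smooth_component [IsLocallyNoetherian C] {D : Scheme.{u}} (i : D ⟶ C)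
    (h : _root_.StrictSS.IsStrictlySemistable φ i) (Z : Set C) (hZ : Z ∈ irreducibleComponents (C : Type u)) :
    ∃ (W : Scheme.{u}) (e : W ⟶ C), IsClosedImmersion e ∧ IsReduced W ∧
      Set.range e = Z ∧ Smooth (e ≫ φ) := by
  have hcl := isClosed_of_mem_irreducibleComponents Z hZ
  let I := Scheme.IdealSheafData.vanishingIdeal (⟨Z, hcl⟩ : Closeds C)
  haveI : IsReduced I.subscheme := Groth.L18.isReduced_vanishingIdeal_subscheme _
  have hr : Set.range I.subschemeι = Z := by
    rw [Scheme.IdealSheafData.range_subschemeι, Scheme.IdealSheafData.coe_support_vanishingIdeal]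
    rfl
  refine ⟨I.subscheme, I.subschemeι, inferInstance, inferInstance, hr, ?_⟩
  obtain ⟨η, hη⟩ := QuasiSober.sober hZ.1 hcl
  have hmem : ∀ w : I.subscheme, I.subschemeι w ∈ Z := fun w => hr.le ⟨w, rfl⟩
  choose U hxU hηU T g hg hgη hsm using fun w => exists_smooth_sub φ i h (I.subschemeι w) η (hη.specializes (hmem w))
  have hcov : ⨆ w, I.subschemeι ⁻¹ᵁ U w = ⊤ := top_le_iff.1 fun w _ => Opens.mem_iSup.2 ⟨w, hxU w⟩
  rw [IsZariskiLocalAtSource.iff_of_iSup_eq_top (P := @Smooth) _ hcov]
  intro w
  haveI := hg w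
  haveI := hsm w
  exact smooth_restrict_of_smooth_sub φ I.subschemeι Z hZ hr (U w) hη (hηU w) (g w) (hgη w)

end Groth.L05.StrictSS
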